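import Groth.Agent.Lib.FormBertini12.Section
import Groth.Agent.Lib.Jets.ProjChart
import Groth.Agent.Lib.HypSurf.HypIdeal
import Groth.Agent.Lib.CurveMult.PnMap
import Groth.Agent.Lib.Euler.Rank
import Groth.Agent.Lib.BlowUp.IdealComap

/-!
# Generic forms of degree `d` cut a smooth projective variety transversally
-/

set_option autoImplicit false
set_option linter.all false
set_option maxHeartbeats 1000000
set_option backward.isDefEq.respectTransparency false
universe u

open CategoryTheory CategoryTheory.Limits AlgebraicGeometry TopologicalSpace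

namespace GrothLib.FormBertini12

open GrothLib.Jets

variable {k : Type u} [Field k] [IsAlgClosed k] {r : ℕ} {X : Scheme.{u}} (i : X ⟶ CohB1.ProjSpace r k)
  [IsClosedImmersion i] [X.Over (Spec (CommRingCat.of k))]
  (hi : i ≫ CohB1.ProjSpace.toSpec r k = X ↘ Spec (CommRingCat.of k))

theorem finite_form (d : ℕ) : Module.Finite k (LefPen.Form r k d) := by
  have hle : CohB1.polyGrading r k d ≤ MvPolynomial.restrictTotalDegree (Fin (r + 1)) k d := by
    intro p hp
    rw [MvPolynomial.mem_restrictTotalDegree]
    exact ((MvPolynomial.mem_homogeneousSubmodule d p).mp hp).totalDegree_le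
  exact Submodule.finiteDimensional_of_le hle

include hi in
theorem app_χ (j : Fin (r + 1)) (a : MvPolynomial (Fin (r + 1)) k) :
    letI := constAlgebra (k := k) (chartX i j).1
    (i.app (CurveMult.SepImm.D (k := k) j)).hom (CurveMult.PnMap.χ k j a) =
      MvPolynomial.aeval (coord i j) a := by
  letI := constAlgebra (k := k) (chartX i j).1
  show theta i j (MvPolynomial.eval₂Hom (Ample.ProjMap.cst (MvPolynomial.X j)) (Ample.ProjMap.ratio j) a) = _
  rw [MvPolynomial.map_eval₂Hom]
  exact congrFun (congrArg (fun f => DFunLike.coe (MvPolynomial.eval₂Hom f fun l => coord i j l))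
    (RingHom.ext fun c => theta_cst i hi j c)) a

include hi in
theorem secIdeal_chart {d : ℕ} (H : LefPen.Form r k d) (j : Fin (r + 1)) :
    letI := constAlgebra (k := k) (chartX i j).1
    (LefPen.secIdeal i ({H} : Set (LefPen.Form r k d))).ideal (chartX i j) =
      Ideal.span {MvPolynomial.aeval (coord i j) H.1} := by
  letI := constAlgebra (k := k) (chartX i j).1
  rw [LefPen.secIdeal, iSup_singleton,
    BlowUp.ideal_comap_eq_map (LefPen.hypIdeal H) i
      ⟨LefPen.chart r k j, HypSurf.isAffineOpen_chart j⟩ (chartX i j) le_rfl,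
    HypSurf.hypIdeal_ideal_eq H _ j le_rfl, Ideal.map_span, Set.image_singleton, ← app_χ i hi j,
    CurveMult.PnMap.χ_form]
  congr 2
  rw [Ample.res_self]
  simp [Scheme.Hom.appLE]
  exact congr($(X.presheaf.map_id _) _)

variable [IsIntegral X] {n : ℕ} [SmoothOfRelativeDimension n (X ↘ Spec (CommRingCat.of k))]

include hi in
theorem exists_poly_chart (j : Fin (r + 1)) [Nonempty (chartX i j).1] (d : ℕ) (hd : 1 ≤ d) :
    letI := constAlgebra (k := k) (chartX i j).1
    haveI := finite_form (k := k) (r := r) d
    ∃ P : MvPolynomial (Fin (Module.finrank k (LefPen.Form r k d))) k, P ≠ 0 ∧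
      ∀ H : LefPen.Form r k d,
        MvPolynomial.eval ((Module.finBasis k (LefPen.Form r k d)).equivFun H) P ≠ 0 →
        SmoothOfRelativeDimension (n - 1) (Spec.map (CommRingCat.ofHom (algebraMap k
          (Γ(X, (chartX i j).1) ⧸ Ideal.span {MvPolynomial.aeval (coord i j) H.1})))) := by
  classical
  letI := constAlgebra (k := k) (chartX i j).1
  haveI := finite_form (k := k) (r := r) d
  let B := Γ(X, (chartX i j).1)
  haveI : Smooth (X ↘ Spec (CommRingCat.of k)) := SmoothOfRelativeDimension.smooth n _
  haveI : Algebra.Smooth k B := smooth_constHom (chartX i j)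
  let b := Module.finBasis k (LefPen.Form r k d)
  let ev : LefPen.Form r k d →ₗ[k] B :=
    (MvPolynomial.aeval (coord i j)).toLinearMap.comp (CohB1.polyGrading r k d).subtype
  let g := fun l => ev (b l)
  have hexp : ∀ H : LefPen.Form r k d, ev H = ∑ l, b.equivFun H l • g l := fun H => by
    conv_lhs => rw [← b.sum_equivFun H, map_sum]
    simp [g]
  have hmon : ∀ l : Fin (r + 1), ((MvPolynomial.X l * MvPolynomial.X j ^ (d - 1) :
      MvPolynomial (Fin (r + 1)) k)) ∈ CohB1.polyGrading r k d := fun l => by
    have := (MvPolynomial.isHomogeneous_X k l).mul ((MvPolynomial.isHomogeneous_X k j).pow (d - 1))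
    rwa [one_mul, show 1 + (d - 1) = d by omega] at this
  have hjet : ∀ p : Ideal B, p.IsMaximal → ∀ x : B,
      ∃ c : Fin (Module.finrank k (LefPen.Form r k d)) → k, x - ∑ l, c l • g l ∈ p ^ 2 := by
    intro p hp x
    haveI := finiteType_chart i hi j
    obtain ⟨c, hc⟩ := jets_of_generators (coord i j) j (coord_self i j) (exists_aeval_coord i hi j) p x
    refine ⟨b.equivFun (∑ l, c l • (⟨_, hmon l⟩ : LefPen.Form r k d)), ?_⟩
    rw [← hexp, map_sum]
    convert hc using 3 with l
    rw [map_smul]
    congr 1
    show MvPolynomial.aeval (coord i j) (MvPolynomial.X l * MvPolynomial.X j ^ (d - 1)) = coord i j l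
    rw [map_mul, map_pow, MvPolynomial.aeval_X, MvPolynomial.aeval_X, coord_self, one_pow, mul_one]
  obtain ⟨P, hP0, hP⟩ := exists_poly_not_mem_sq (k := k) (0 : B) g hjet
  refine ⟨P, hP0, fun H hH => ?_⟩
  have hsq : ∀ p : Ideal B, p.IsMaximal → ev H ∉ p ^ 2 := fun p hp => by
    have := hP _ hH p hp
    rwa [zero_add, ← hexp] at this
  have hne : ev H ≠ 0 := fun h => by
    obtain ⟨p, hp⟩ := Ideal.exists_maximal B
    exact hsq p hp (h ▸ zero_mem _)
  have hn : ∀ p : PrimeSpectrum B, Module.rankAtStalk (R := B) Ω[B⁄k] p = n := by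
    refine rankAtStalk_kaehler_of_locally n ?_
    have h1 : SmoothOfRelativeDimension n (Spec.map (CommRingCat.ofHom (constHom (k := k) (chartX i j).1))) := by
      rw [← fromSpec_over (chartX i j).2]
      exact IsZariskiLocalAtSource.comp (P := @SmoothOfRelativeDimension n) inferInstance _
    exact (HasRingHomProperty.Spec_iff (P := @SmoothOfRelativeDimension n)).mp h1
  exact smoothOfRelativeDimension_quotient n hn (ev H) hne hsq

include hi in
/-- Transversality for generic forms. -/
theorem isGeneric (hn : 1 ≤ n) (d : ℕ) (hd : 1 ≤ d) :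
    LefPen.IsGeneric k {H : LefPen.Form r k d |
      LefPen.Transversal k n 1 (LefPen.secToSpec i ({H} : Set (LefPen.Form r k d)))} := by
  classical
  haveI := finite_form (k := k) (r := r) d
  let b := Module.finBasis k (LefPen.Form r k d)
  let J := {j : Fin (r + 1) // Nonempty (chartX i j).1}
  choose P hP0 hP using fun j : J => @exists_poly_chart k _ _ r X i _ _ hi _ n _ j.1 j.2 d hd
  let Q := ∏ j, P j
  have hQ0 : Q ≠ 0 := Finset.prod_ne_zero_iff.mpr fun j _ => hP0 j
  refine ⟨fun H => MvPolynomial.eval (b.equivFun H) Q, ?_, ?_, fun H hH => Or.inl ⟨hn, ?_⟩⟩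
  · show (fun H => MvPolynomial.eval (b.equivFun H) Q) ∈ Algebra.adjoin k _
    induction Q using MvPolynomial.induction_on with
    | C a =>
      have : (fun H : LefPen.Form r k d => MvPolynomial.eval (b.equivFun H) (MvPolynomial.C a)) =
          algebraMap k _ a := by funext H; simp
      rw [this]; exact Subalgebra.algebraMap_mem _ a
    | add p q hp hq => simp only [map_add]; exact add_mem hp hq
    | mul_X p l hp =>
      simp only [map_mul, MvPolynomial.eval_X]
      exact mul_mem hp (Algebra.subset_adjoin ⟨b.coord l, by funext H; simp [Module.Basis.equivFun_apply]⟩)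
  · haveI : Infinite k := IsAlgClosed.instInfinite
    by_contra hall
    push Not at hall
    refine hQ0 (MvPolynomial.funext fun x => ?_)
    have h := hall (b.equivFun.symm x)
    rw [LinearEquiv.apply_symm_apply] at h
    rw [h, map_zero]
  let hHj : ∀ j : J, MvPolynomial.eval (b.equivFun H) (P j) ≠ 0 := fun j => by
    have : MvPolynomial.eval (b.equivFun H) (∏ j, P j) ≠ 0 := hH
    rw [map_prod, Finset.prod_ne_zero_iff] at this
    exact this j (Finset.mem_univ j)
  show SmoothOfRelativeDimension (n - 1) (_ ≫ _ ≫ _)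
  rw [hi]
  let I := LefPen.secIdeal i ({H} : Set (LefPen.Form r k d))
  let 𝒰 : I.subscheme.OpenCover :=
    Scheme.Cover.mkOfCovers J (fun j => Spec (CommRingCat.of (Γ(X, (chartX i j.1).1) ⧸ I.ideal (chartX i j.1))))
      (fun j => I.subschemeCover.f (chartX i j.1))
      (fun x => by
        have h := (GrothLib.Ample.ProjMap.iSup_basicOpen_X r k).ge (Opens.mem_top (i (I.subschemeι x)))
        obtain ⟨j, hj⟩ := Opens.mem_iSup.mp h
        have : x ∈ (I.subschemeCover.f (chartX i j)).opensRange := by
          rw [I.opensRange_subschemeCover_map (chartX i j)]; exact hj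
        obtain ⟨y, hy⟩ := this
        exact ⟨⟨j, ⟨⟨I.subschemeι x, hj⟩⟩⟩, y, hy⟩)
      (fun j => inferInstanceAs (IsOpenImmersion (I.subschemeCover.f (chartX i j.1))))
  rw [IsZariskiLocalAtSource.iff_of_openCover (P := @SmoothOfRelativeDimension (n - 1)) 𝒰]
  intro j
  letI := constAlgebra (k := k) (chartX i j.1).1
  show SmoothOfRelativeDimension (n - 1)
    (I.subschemeCover.f (chartX i j.1) ≫ I.subschemeι ≫ (X ↘ Spec (CommRingCat.of k)))
  rw [← Category.assoc, Scheme.IdealSheafData.subschemeCover_map_subschemeι,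
    Scheme.IdealSheafData.glueDataObjι_ι, Category.assoc, fromSpec_over (chartX i j.1).2, ← Spec.map_comp,
    ← CommRingCat.ofHom_comp]
  have := hP j H (hHj j)
  rw [← secIdeal_chart i hi H j.1] at this
  exact this

end GrothLib.FormBertini12
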