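import Groth.Agent.Lib.Bertini16.Section
import Groth.Agent.Lib.Jets.Engine

/-!
# A general section of a smooth affine scheme has one dimension less
-/

set_option autoImplicit false
set_option linter.all false
set_option maxHeartbeats 1000000
universe u

open TensorProduct CategoryTheory AlgebraicGeometry

namespace GrothLib.FormBertini12

/-- Rank of the differentials of an algebra that is locally standard smooth of relative dimension `n`. -/
theorem rankAtStalk_kaehler_of_locally {k B : Type u} [Field k] [CommRing B] [Algebra k B] [Algebra.Smooth k B]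
    (n : ℕ) (h : RingHom.Locally (RingHom.IsStandardSmoothOfRelativeDimension n) (algebraMap k B))
    (p : PrimeSpectrum B) : Module.rankAtStalk (R := B) Ω[B⁄k] p = n := by
  obtain ⟨s, hs, hstd⟩ := h
  obtain ⟨g, hgs, hgp⟩ : ∃ g ∈ s, g ∉ p.asIdeal := by
    by_contra hne
    push Not at hne
    exact p.2.ne_top (top_unique (hs ▸ Ideal.span_le.2 hne))
  let Bg := Localization.Away g
  have hg := hstd g hgs
  rw [← IsScalarTower.algebraMap_eq k B Bg] at hg
  haveI : Algebra.IsStandardSmoothOfRelativeDimension n k Bg :=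
    (RingHom.isStandardSmoothOfRelativeDimension_algebraMap n).mp hg
  haveI : Algebra.IsStandardSmooth k Bg :=
    Algebra.IsStandardSmoothOfRelativeDimension.isStandardSmooth (R := k) (S := Bg) n
  obtain ⟨q, hq⟩ : p ∈ Set.range (PrimeSpectrum.comap (algebraMap B Bg)) := by
    rw [PrimeSpectrum.localization_away_comap_range Bg g]; exact hgp
  haveI : Nontrivial Bg := ⟨0, 1, fun e => q.2.ne_top (top_unique fun x _ => by
    rw [← mul_one x, ← e, mul_zero]; exact zero_mem _)⟩
  have hrk := Algebra.IsStandardSmoothOfRelativeDimension.rank_kaehlerDifferential (R := k) (S := Bg) n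
  haveI : Algebra.FormallyEtale B Bg := Algebra.FormallyEtale.of_isLocalization (.powers g)
  have h1 : Module.rankAtStalk (R := Bg) Ω[Bg⁄k] q = n := by
    rw [Module.rankAtStalk_eq_finrank_of_free, Module.finrank, hrk]
    simp
  rw [← h1, ← Module.rankAtStalk_eq_of_equiv (KaehlerDifferential.tensorKaehlerEquivOfFormallyEtale k B Bg),
    Module.rankAtStalk_baseChange, hq]

/-- The section of a smooth domain by a function in no square of a maximal ideal. -/
theorem smoothOfRelativeDimension_quotient {k B : Type u} [Field k] [IsAlgClosed k] [CommRing B] [IsDomain B]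
    [Algebra k B] [Algebra.Smooth k B] (n : ℕ) (hn : ∀ p : PrimeSpectrum B, Module.rankAtStalk (R := B) Ω[B⁄k] p = n)
    (h : B) (hne : h ≠ 0) (hsq : ∀ p : Ideal B, p.IsMaximal → h ∉ p ^ 2) :
    SmoothOfRelativeDimension (n - 1) (Spec.map (CommRingCat.ofHom (algebraMap k (B ⧸ Ideal.span {h})))) := by
  classical
  haveI hC : Algebra.Smooth k (B ⧸ Ideal.span {h}) := GrothLib.Jets.smooth_quotient_of_not_mem_sq h hsq
  let C := B ⧸ Ideal.span {h}
  let I := RingHom.ker (algebraMap B C)
  have hI : ∀ x, x ∈ I ↔ x ∈ Ideal.span {h} := GrothLib.HypersurfaceSmooth.mem_ker_iff h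
  let fc : I.Cotangent := I.toCotangent ⟨h, (hI h).2 (Ideal.mem_span_singleton_self h)⟩
  obtain ⟨l, hl⟩ := (Algebra.FormallySmooth.iff_split_injection (R := k) (P := B) (A := C)
    Ideal.Quotient.mk_surjective).mp inferInstance
  let v : C ⊗[B] Ω[B⁄k] := 1 ⊗ₜ KaehlerDifferential.D k B h
  let μ := KaehlerDifferential.mapBaseChange k B C
  have hμ : Function.Surjective μ :=
    KaehlerDifferential.mapBaseChange_surjective k B C Ideal.Quotient.mk_surjective
  have hv0 : ∀ c : C, c • v = 0 → c = 0 := by
    intro c hc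
    obtain ⟨b, rfl⟩ := Ideal.Quotient.mk_surjective c
    have h1 : b • v = 0 := by rw [← hc]; exact (algebraMap_smul C b v).symm
    have h2 : l v = fc := by
      have := LinearMap.congr_fun hl fc
      simp only [fc, LinearMap.comp_apply, LinearMap.id_apply] at this ⊢
      exact this
    have h3 : b • fc = 0 := by rw [← h2, ← map_smul, h1, map_zero]
    rw [← map_smul, Ideal.toCotangent_eq_zero] at h3
    change b * h ∈ I ^ 2 at h3
    rw [show I = Ideal.span {h} from Ideal.ext hI, Ideal.span_singleton_pow, Ideal.mem_span_singleton'] at h3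
    obtain ⟨a, ha⟩ := h3
    rw [Ideal.Quotient.eq_zero_iff_mem, Ideal.mem_span_singleton']
    exact ⟨a, mul_right_cancel₀ hne (by rw [← ha]; ring)⟩
  have hker : ∀ z, μ z = 0 → ∃ c : C, z = c • v := fun z hz => by
    obtain ⟨x, rfl⟩ := ((KaehlerDifferential.exact_kerCotangentToTensor_mapBaseChange k B C
      Ideal.Quotient.mk_surjective) z).1 hz
    obtain ⟨⟨y, hy⟩, rfl⟩ := Ideal.toCotangent_surjective _ x
    obtain ⟨a, rfl⟩ := Ideal.mem_span_singleton'.1 ((hI y).1 hy)
    refine ⟨algebraMap B C a, ?_⟩
    rw [KaehlerDifferential.kerCotangentToTensor_toCotangent, algebraMap_smul, Derivation.leibniz,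
      TensorProduct.tmul_add, TensorProduct.tmul_smul, TensorProduct.tmul_smul]
    suffices hh : (h : B) • ((1 : C) ⊗ₜ[B] KaehlerDifferential.D k B a) = 0 by rw [hh, add_zero]
    rw [TensorProduct.smul_tmul', Algebra.smul_def, mul_one,
      show algebraMap B C h = 0 from Ideal.Quotient.eq_zero_iff_mem.2 (Ideal.mem_span_singleton_self h),
      TensorProduct.zero_tmul]
  have hμv : μ v = 0 := by
    simp only [μ, v, KaehlerDifferential.mapBaseChange_tmul, one_smul, KaehlerDifferential.map_D]
    rw [show algebraMap B C h = 0 from Ideal.Quotient.eq_zero_iff_mem.2 (Ideal.mem_span_singleton_self h), map_zero]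
  haveI : Module.Projective C Ω[C⁄k] := inferInstance
  obtain ⟨s, hs⟩ := Module.projective_lifting_property μ LinearMap.id hμ
  let e : (C × Ω[C⁄k]) ≃ₗ[C] C ⊗[B] Ω[B⁄k] := LinearEquiv.ofBijective
    ((LinearMap.toSpanSingleton C _ v).coprod s) (by
      refine ⟨(injective_iff_map_eq_zero _).2 fun z hz => ?_, fun z => ?_⟩
      · obtain ⟨c, w⟩ := z
        change c • v + s w = 0 at hz
        have hw : w = 0 := by
          have := congrArg μ hz
          rw [map_add, map_smul, hμv, smul_zero, zero_add, map_zero] at this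
          exact (LinearMap.congr_fun hs w).symm.trans this
        rw [hw, map_zero, add_zero] at hz
        rw [hv0 c hz, hw]
        rfl
      · obtain ⟨c, hc⟩ := hker (z - s (μ z)) (by
          rw [map_sub, sub_eq_zero]; exact (LinearMap.congr_fun hs (μ z)).symm)
        exact ⟨(c, μ z), show c • v + s (μ z) = z by rw [← hc, sub_add_cancel]⟩)
  haveI : Module.Projective B Ω[B⁄k] := inferInstance
  haveI : Module.Finite B Ω[B⁄k] := inferInstance
  haveI : Module.Finite C Ω[C⁄k] := inferInstance
  refine GrothLib.Bertini16.smoothOfRelativeDimension_of_rank C (n - 1) fun p => ?_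
  haveI : Nontrivial C := ⟨0, 1, fun e => p.2.ne_top (top_unique fun x _ => by
    rw [← mul_one x, ← e, mul_zero]; exact zero_mem _)⟩
  have h1 := congrFun (Module.rankAtStalk_eq_of_equiv e) p
  rw [Module.rankAtStalk_prod, Module.rankAtStalk_baseChange, hn] at h1
  simp only [Pi.add_apply, Module.rankAtStalk_self, Pi.one_apply] at h1
  omega

end GrothLib.FormBertini12
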